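import Mathlib.RingTheory.MvPolynomial.Basic
import Mathlib.RingTheory.Flat.Basic
import Mathlib.RingTheory.Nakayama
import Mathlib.Algebra.Module.Torsion.Basic
import Mathlib.RingTheory.Polynomial.Basic
import Mathlib.LinearAlgebra.TensorProduct.RightExactness
import Mathlib.RingTheory.Flat.Tensor
import Mathlib.LinearAlgebra.Dual.Lemmas

/-!
# Polynomials of unit content
-/

set_option autoImplicit false

universe u

open TensorProduct

namespace Groth.Agent.Lib.UnitContent

variable {A : Type u} [CommRing A] {σ : Type*}

theorem eq_zero_of_mul_eq_zero {f h : MvPolynomial σ A} (hf : Ideal.span (Set.range f.coeff) = ⊤)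
    (hfh : f * h = 0) : h = 0 := by
  classical
  set J : Ideal A := Ideal.span (Set.range h.coeff) with hJ
  have hmemJ : ∀ d, h.coeff d ∈ J := fun d => Ideal.subset_span ⟨d, rfl⟩
  have hfg : J.FG := by
    refine ⟨insert 0 (h.support.image h.coeff), le_antisymm (Submodule.span_le.2 ?_) ?_⟩
    · intro x hx
      simp only [Finset.coe_insert, Set.mem_insert_iff, Finset.coe_image, Set.mem_image] at hx
      rcases hx with rfl | ⟨d, -, rfl⟩
      · exact zero_mem _
      · exact hmemJ d
    · refine Submodule.span_le.2 ?_
      rintro _ ⟨d, rfl⟩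
      apply Submodule.subset_span
      by_cases hd : d ∈ h.support
      · exact Finset.mem_coe.2 (Finset.mem_insert_of_mem (Finset.mem_image.2 ⟨d, hd, rfl⟩))
      · rw [MvPolynomial.notMem_support_iff] at hd
        change h.coeff d ∈ _
        simp [hd]
  have key : ∀ m : Ideal A, m.IsMaximal → J ≤ m • J := by
    intro m hm
    letI : Field (A ⧸ m) := Ideal.Quotient.field m
    let q := Submodule.mkQ (m • (⊤ : Submodule A J))
    let c : (σ →₀ ℕ) → (J ⧸ m • (⊤ : Submodule A J)) := fun d => q ⟨h.coeff d, hmemJ d⟩
    suffices hc : ∀ d, c d = 0 by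
      have hle : (⊤ : Submodule A J) ≤ m • ⊤ := by
        rintro ⟨x, hx⟩ -
        induction hx using Submodule.span_induction with
        | mem a ha =>
          obtain ⟨d, rfl⟩ := ha
          exact (Submodule.Quotient.mk_eq_zero _).1 (hc d)
        | zero => exact zero_mem _
        | add a b ha hb h1 h2 => exact add_mem h1 h2
        | smul r a ha h1 => exact Submodule.smul_mem _ r h1
      have := Submodule.map_mono (f := J.subtype) hle
      rwa [Submodule.map_smul'', Submodule.map_top, Submodule.range_subtype] at this
    intro d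
    refine (Module.forall_dual_apply_eq_zero_iff (A ⧸ m) _).1 fun ψ => ?_
    let P : MvPolynomial σ (A ⧸ m) := ∑ e ∈ h.support, MvPolynomial.monomial e (ψ (c e))
    have hP : ∀ e, P.coeff e = ψ (c e) := by
      intro e
      simp only [P, MvPolynomial.coeff_sum, MvPolynomial.coeff_monomial]
      rw [Finset.sum_ite_eq']
      split_ifs with he
      · rfl
      · rw [MvPolynomial.notMem_support_iff] at he
        have : c e = 0 := by
          change q _ = 0
          rw [show (⟨h.coeff e, hmemJ e⟩ : J) = 0 from Subtype.ext he, map_zero]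
        rw [this, map_zero]
    have hmul : MvPolynomial.map (Ideal.Quotient.mk m) f * P = 0 := by
      ext n
      rw [MvPolynomial.coeff_mul, MvPolynomial.coeff_zero]
      have h0 := congrArg (fun p => MvPolynomial.coeff n p) hfh
      simp only [MvPolynomial.coeff_mul, MvPolynomial.coeff_zero] at h0
      have hJ0 : ∑ x ∈ Finset.antidiagonal n, f.coeff x.1 • (⟨h.coeff x.2, hmemJ x.2⟩ : J) = 0 := by
        apply Subtype.ext
        simpa [Submodule.coe_sum] using h0
      have := congrArg (fun z => ψ (q z)) hJ0
      simp only [map_sum, map_zero] at this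
      rw [← this]
      refine Finset.sum_congr rfl fun x _ => ?_
      rw [MvPolynomial.coeff_map, hP, map_smul, ← smul_eq_mul, ← map_smul]
      rfl
    have hne : MvPolynomial.map (Ideal.Quotient.mk m) f ≠ 0 := by
      intro h0
      refine hm.ne_top (eq_top_iff.2 (hf ▸ Ideal.span_le.2 ?_))
      rintro _ ⟨e, rfl⟩
      have := congrArg (fun p => MvPolynomial.coeff e p) h0
      simp only [MvPolynomial.coeff_map, MvPolynomial.coeff_zero] at this
      exact Ideal.Quotient.eq_zero_iff_mem.1 this
    rcases mul_eq_zero.1 hmul with h1 | h1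
    · exact absurd h1 hne
    · rw [← hP, h1, MvPolynomial.coeff_zero]
  suffices hJbot : J = ⊥ by
    ext d
    have := hmemJ d
    rw [hJbot, Submodule.mem_bot] at this
    simpa using this
  by_contra hne
  have hann : Submodule.annihilator J ≠ ⊤ := fun h => hne (Submodule.annihilator_eq_top_iff.1 h)
  obtain ⟨m, hm, hle⟩ := Ideal.exists_le_maximal _ hann
  obtain ⟨r, hr1, hr2⟩ :=
    Submodule.exists_sub_one_mem_and_smul_eq_zero_of_fg_of_le_smul m J hfg (key m hm)
  have hr : r ∈ m := hle (Submodule.mem_annihilator.2 hr2)
  exact hm.ne_top ((Ideal.eq_top_iff_one m).2 (by simpa using sub_mem hr hr1))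

theorem flat_quotient_range {M : Type u} [AddCommGroup M] [Module A M] [Module.Flat A M]
    (f : M →ₗ[A] M)
    (H : ∀ (I : Ideal A) (m : M), f m ∈ (I • ⊤ : Submodule A M) → m ∈ (I • ⊤ : Submodule A M)) :
    Module.Flat A (M ⧸ LinearMap.range f) := by
  rw [Module.Flat.iff_lTensor_injective']
  intro I
  rw [injective_iff_map_eq_zero]
  intro x hx
  set q := (LinearMap.range f).mkQ with hq
  have hex : Function.Exact f q := LinearMap.exact_map_mkQ_range f
  obtain ⟨z, rfl⟩ := LinearMap.rTensor_surjective I (Submodule.mkQ_surjective _) x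
  let φ : M ⊗[A] I →ₗ[A] M := (TensorProduct.rid A M).toLinearMap ∘ₗ (Submodule.subtype I).lTensor M
  have hφi : Function.Injective φ :=
    (TensorProduct.rid A M).injective.comp
      (Module.Flat.lTensor_preserves_injective_linearMap (Submodule.subtype I) Subtype.val_injective)
  have hrange : ∀ m, m ∈ (I • ⊤ : Submodule A M) → ∃ w, φ w = m := by
    intro m hm
    refine Submodule.smul_induction_on hm (fun r hr n _ => ⟨n ⊗ₜ ⟨r, hr⟩, by simp [φ]⟩) ?_
    rintro _ _ ⟨a, rfl⟩ ⟨b, rfl⟩
    exact ⟨a + b, map_add _ _ _⟩
  have hmem : ∀ w, φ w ∈ (I • ⊤ : Submodule A M) := by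
    intro w
    induction w using TensorProduct.induction_on with
    | zero => simp
    | tmul n r => simpa [φ] using Submodule.smul_mem_smul r.2 (Submodule.mem_top (x := n))
    | add a b ha hb => rw [map_add]; exact add_mem ha hb
  have h1 : q (φ z) = 0 := by
    have : (TensorProduct.rid A (M ⧸ LinearMap.range f)).toLinearMap ((Submodule.subtype I).lTensor _
        (q.rTensor I z)) = q (φ z) := by
      clear hx
      induction z using TensorProduct.induction_on with
      | zero => simp
      | tmul n r => simp [φ]
      | add a b ha hb => simp only [map_add, ha, hb]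
    rw [← this, hx, map_zero]
  obtain ⟨m, hm⟩ := (hex _).1 h1
  obtain ⟨w, hw⟩ := hrange m (H I m (hm ▸ hmem z))
  have hcomm : φ (f.rTensor I w) = f (φ w) := by
    clear hw
    induction w using TensorProduct.induction_on with
    | zero => simp
    | tmul n r => simp [φ]
    | add a b ha hb => simp only [map_add, ha, hb]
  have : z = f.rTensor I w := hφi (by rw [hcomm, hw, hm])
  rw [this, ← LinearMap.rTensor_comp_apply, hex.linearMap_comp_eq_zero]
  simp

theorem mem_nonZeroDivisors (f : MvPolynomial σ A)
    (hf : Ideal.span (Set.range f.coeff) = ⊤) :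
    f ∈ nonZeroDivisors (MvPolynomial σ A) := by
  rw [mem_nonZeroDivisors_iff_right]
  intro h hh
  exact eq_zero_of_mul_eq_zero hf (by rwa [mul_comm])

end Groth.Agent.Lib.UnitContent
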